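import Cfsg.Prelude.Def_Local
import Cfsg.Agent.Fusion.Basic
import Cfsg.Agent.Fusion.GroupAlperin
import Mathlib.Tactic

/-!
A `2`-subgroup of one conjugate of a tightly embedded subgroup normalizing another one.
-/

set_option autoImplicit false

namespace CfsgLib.Tightly

open CfsgLib.GroupAlperin
open scoped Pointwise

variable {G : Type*} [Group G] [Finite G]

/-- `X` and `Y` are distinct members of a family of subgroups meeting pairwise in odd order. -/
def IsPair (𝒬 : Set (Subgroup G)) (X Y : Subgroup G) : Prop :=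
  X ∈ 𝒬 ∧ Y ∈ 𝒬 ∧ X ≠ Y ∧ (∀ A ∈ 𝒬, ∀ B ∈ 𝒬, A ≠ B → Odd (Nat.card ↥(A ⊓ B))) ∧
    ∀ A ∈ 𝒬, ∀ g : G, A.map (MulAut.conj g).toMonoidHom ∈ 𝒬

theorem eq_bot_of_odd {T X : Subgroup G} (hT : IsPGroup 2 T) (hX : Odd (Nat.card X)) (h : T ≤ X) : T = ⊥ := by
  refine Subgroup.eq_bot_of_card_eq T ?_
  obtain ⟨n, hn⟩ := hT.exists_card_eq
  have h1 := Subgroup.card_dvd_of_le h
  rcases Nat.eq_zero_or_pos n with hn0 | hn0
  · rw [hn, hn0, pow_zero]
  · exact absurd ((dvd_pow_self 2 hn0.ne').trans (hn ▸ h1)) (Nat.two_dvd_ne_zero.2 (Nat.odd_iff.1 hX))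

/-- A `2`-subgroup `T` of `Y ∩ N(X)`, Sylow there, centralizes a subgroup of at least its order of a `T`-invariant
Sylow `2`-subgroup of `X`, isomorphic to it if of the same order. -/
theorem half {𝒬 : Set (Subgroup G)} {X Y : Subgroup G} (hXY : IsPair 𝒬 X Y) {T R : Subgroup G}
    (hT : IsPGroup 2 T) (hTne : T ≠ ⊥) (hTle : T ≤ Y ⊓ Subgroup.normalizer (X : Set G))
    (hTmax : ∀ T' : Subgroup G, IsPGroup 2 T' → T' ≤ Y ⊓ Subgroup.normalizer (X : Set G) → T ≤ T' → T' = T)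
    (hR : IsPGroup 2 R) (hRX : R ≤ X) (hRidx : ¬ 2 ∣ R.relIndex X) (hTR : T ≤ Subgroup.normalizer (R : Set G))
    (hcard : Nat.card Y = Nat.card X) (hsyl : ∀ T' : Subgroup G, IsPGroup 2 T' → T' ≤ Y → Nat.card T' = Nat.card R →
      Nonempty (R ≃* T')) :
    T ⊓ X = ⊥ ∧ R ⊓ Subgroup.normalizer (T : Set G) ≤ Subgroup.normalizer (Y : Set G) ∧
      R ⊓ Subgroup.normalizer (T : Set G) ≤ Subgroup.centralizer (T : Set G) ∧
      Nat.card T ≤ Nat.card ↥(R ⊓ Subgroup.normalizer (T : Set G)) ∧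
      (Nat.card ↥(R ⊓ Subgroup.normalizer (T : Set G)) = Nat.card T →
        Nonempty (↥(R ⊓ Subgroup.normalizer (T : Set G)) ≃* T)) := by
  obtain ⟨hX, hY, hne, hodd, hclosed⟩ := hXY
  set U := R ⊓ Subgroup.normalizer (T : Set G) with hU
  have hTX : T ⊓ X = ⊥ := eq_bot_of_odd (hT.to_le inf_le_left) (hodd X hX Y hY hne)
    (le_inf inf_le_right (inf_le_left.trans (hTle.trans inf_le_left)))
  have hUY : U ≤ Subgroup.normalizer (Y : Set G) := by
    intro u hu
    have h1 : Y.map (MulAut.conj u).toMonoidHom = Y := by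
      by_contra hne'
      exact hTne (eq_bot_of_odd hT (hodd _ (hclosed Y hY u) Y hY hne') (le_inf (fun t ht =>
        ⟨u⁻¹ * t * u, (hTle (by simpa using (Subgroup.mem_normalizer_iff.1 (inv_mem hu.2) t).1 ht)).1, by
          simp [mul_assoc]⟩) (hTle.trans inf_le_left)))
    refine Subgroup.mem_normalizer_fintype fun y hy => ?_
    rw [← h1]
    exact ⟨y, hy, by simp⟩
  have hUC : U ≤ Subgroup.centralizer (T : Set G) := by
    intro u hu
    refine Subgroup.mem_centralizer_iff.2 fun t ht => ?_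
    have h2 : u * t * u⁻¹ * t⁻¹ ∈ T ⊓ X := by
      refine ⟨T.mul_mem ((Subgroup.mem_normalizer_iff.1 hu.2 t).1 ht) (T.inv_mem ht), ?_⟩
      rw [mul_assoc, mul_assoc, ← mul_assoc t]
      exact X.mul_mem (hRX hu.1) ((Subgroup.mem_normalizer_iff.1 (hTle ht).2 u⁻¹).1 (X.inv_mem (hRX hu.1)))
    rw [hTX, Subgroup.mem_bot, mul_inv_eq_one, mul_inv_eq_iff_eq_mul] at h2
    exact h2.symm
  refine ⟨hTX, hUY, hUC, ?_⟩
  rcases eq_or_lt_of_le (inf_le_left : U ≤ R) with heq | hlt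
  · -- `U` is a full Sylow subgroup
    have hTdvd : Nat.card T ∣ Nat.card R * R.relIndex X := by
      have h := Subgroup.relIndex_mul_relIndex ⊥ R X bot_le hRX
      rw [Subgroup.relIndex_bot_left, Subgroup.relIndex_bot_left] at h
      rw [h, ← hcard]
      exact Subgroup.card_dvd_of_le (hTle.trans inf_le_left)
    obtain ⟨n, hn⟩ := hT.exists_card_eq
    have hdvd : Nat.card T ∣ Nat.card R := by
      refine Nat.Coprime.dvd_of_dvd_mul_right ?_ hTdvd
      rw [hn]
      exact ((Nat.Prime.coprime_iff_not_dvd Nat.prime_two).2 hRidx).pow_left n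
    rw [show U = R from heq]
    refine ⟨Nat.le_of_dvd Nat.card_pos hdvd, fun h => ?_⟩
    exact hsyl T hT (hTle.trans inf_le_left) h.symm
  -- an element of `R` moving `T`
  set W := T ⊔ U with hW
  have hTU : T ≤ Subgroup.centralizer (U : Set G) := fun t ht =>
    Subgroup.mem_centralizer_iff.2 fun u hu => (Subgroup.mem_centralizer_iff.1 (hUC hu) t ht).symm
  have hP : IsPGroup 2 ↥(T ⊔ R) := hT.to_sup_of_normal_right' hR hTR
  have hWmem : ∀ w ∈ W, ∃ t ∈ T, ∃ u ∈ U, t * u = w := by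
    intro w hw
    have h : w ∈ ((T : Set G) * (U : Set G)) := by
      rw [← Subgroup.coe_mul_of_left_le_normalizer_right T U (hTU.trans (Subgroup.centralizer_le_normalizer _))]
      exact hw
    exact h
  have hUT : ∀ u ∈ U, u ∈ T → u = 1 := fun u hu hut => Subgroup.mem_bot.1 (hTX ▸ ⟨hut, hRX hu.1⟩)
  have hWlt : W < T ⊔ R := by
    refine lt_of_le_of_ne (sup_le_sup_left inf_le_left _) fun e => ?_
    obtain ⟨r, hrR, hrU⟩ := SetLike.exists_of_lt hlt
    obtain ⟨t, ht, u, hu, he⟩ := hWmem r (e.ge (Subgroup.mem_sup_right hrR))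
    have ht1 : t = 1 := Subgroup.mem_bot.1 (hTX ▸ ⟨ht, hRX (show t ∈ R by
      rw [show t = r * u⁻¹ by rw [← he]; group]
      exact R.mul_mem hrR (R.inv_mem hu.1))⟩)
    rw [ht1, one_mul] at he
    exact hrU (he ▸ hu)
  obtain ⟨z, hz, hzN, hzW⟩ := CfsgLib.Fusion.exists_normalizer_not_mem hP hWlt
  obtain ⟨t, ht, r, hr, hztr⟩ : ∃ t ∈ T, ∃ r ∈ R, t * r = z := by
    have h : z ∈ ((T : Set G) * (R : Set G)) := by
      rw [← Subgroup.coe_mul_of_left_le_normalizer_right T R hTR]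
      exact hz
    exact h
  have hrN : r ∈ Subgroup.normalizer (W : Set G) := by
    rw [show r = t⁻¹ * z by rw [← hztr]; group]
    exact mul_mem (inv_mem (Subgroup.le_normalizer (Subgroup.mem_sup_left ht))) hzN
  have hrU : r ∉ U := fun h => hzW (hztr ▸ mul_mem (Subgroup.mem_sup_left ht) (Subgroup.mem_sup_right h))
  set T' := T.map (MulAut.conj r).toMonoidHom with hT'
  have hT'W : T' ≤ W := by
    rintro _ ⟨a, ha, rfl⟩
    exact (Subgroup.mem_normalizer_iff.1 hrN a).1 (Subgroup.mem_sup_left ha)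
  have hWY : ∀ w ∈ W, w ∈ Y → w ∈ T := by
    intro w hw hwY
    have hWX : W ≤ Subgroup.normalizer (X : Set G) :=
      sup_le (hTle.trans inf_le_right) ((inf_le_left.trans hRX).trans Subgroup.le_normalizer)
    exact (hTmax (W ⊓ Y) ((hP.to_le hWlt.le).to_le inf_le_left) (le_inf inf_le_right (inf_le_left.trans hWX))
      (le_inf le_sup_left (hTle.trans inf_le_left))).le ⟨hw, hwY⟩
  have hYr : Y.map (MulAut.conj r).toMonoidHom ≠ Y := by
    intro e
    refine hrU ⟨hr, Subgroup.mem_normalizer_fintype fun a ha => ?_⟩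
    have h1 : r * a * r⁻¹ ∈ T' := ⟨a, ha, by simp⟩
    exact hWY _ (hT'W h1) (e.le ⟨a, (hTle ha).1, by simp⟩)
  have hTT' : T ⊓ T' = ⊥ := eq_bot_of_odd (hT.to_le inf_le_left) (hodd Y hY _ (hclosed Y hY r) (Ne.symm hYr))
    (le_inf (inf_le_left.trans (hTle.trans inf_le_left)) (inf_le_right.trans (Subgroup.map_mono (hTle.trans inf_le_left))))
  have hcT' : Nat.card T' = Nat.card T := Subgroup.card_map_of_injective (MulEquiv.injective _)
  haveI hTn : (T.subgroupOf W).Normal := Subgroup.normal_subgroupOf_of_le_normalizer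
    (sup_le Subgroup.le_normalizer (hUC.trans (Subgroup.centralizer_le_normalizer _)))
  let π := QuotientGroup.mk' (T.subgroupOf W)
  let fU : ↥U →* ↥W ⧸ T.subgroupOf W := π.comp (Subgroup.inclusion le_sup_right)
  let fT : ↥T' →* ↥W ⧸ T.subgroupOf W := π.comp (Subgroup.inclusion hT'W)
  have hfU : Function.Bijective fU := by
    refine ⟨(injective_iff_map_eq_one fU).2 fun u hu => Subtype.ext (hUT u u.2 ?_), fun y => ?_⟩
    · exact Subgroup.mem_subgroupOf.1 ((QuotientGroup.eq_one_iff (Subgroup.inclusion le_sup_right u)).1 hu)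
    · obtain ⟨⟨w, hw⟩, rfl⟩ := QuotientGroup.mk'_surjective (T.subgroupOf W) y
      obtain ⟨t, ht, u, hu, rfl⟩ := hWmem w hw
      refine ⟨⟨u, hu⟩, QuotientGroup.eq.2 (Subgroup.mem_subgroupOf.2 ?_)⟩
      show u⁻¹ * (t * u) ∈ T
      rw [← mul_assoc, mul_assoc u⁻¹, Subgroup.mem_centralizer_iff.1 (hUC hu) t ht, inv_mul_cancel_left]
      exact ht
  have hfT : Function.Injective fT := (injective_iff_map_eq_one fT).2 fun a ha => Subtype.ext (Subgroup.mem_bot.1
    (hTT' ▸ ⟨Subgroup.mem_subgroupOf.1 ((QuotientGroup.eq_one_iff (Subgroup.inclusion hT'W a)).1 ha), a.2⟩))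
  have hcU : Nat.card U = Nat.card (↥W ⧸ T.subgroupOf W) := Nat.card_congr (Equiv.ofBijective _ hfU)
  refine ⟨?_, fun h => ⟨?_⟩⟩
  · rw [← hcT', hcU]
    exact Nat.card_le_card_of_injective _ hfT
  · have hfT' : Function.Bijective fT := (Nat.bijective_iff_injective_and_card fT).2 ⟨hfT, by rw [hcT', ← h, hcU]⟩
    exact ((MulEquiv.ofBijective fU hfU).trans (MulEquiv.ofBijective fT hfT').symm).trans
      (T.equivMapOfInjective (MulAut.conj r).toMonoidHom (MulEquiv.injective _)).symm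

end CfsgLib.Tightly
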